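import Groth.Agent.OrbitQuotLib.Change
import Groth.Agent.GrpSchLib.Component
import Groth.Agent.GrpQuotLib.FieldQuot
import Groth.Agent.ASp.MonoPoint

/-! Connected open subgroups over an algebraically closed field. -/

set_option autoImplicit false
set_option backward.isDefEq.respectTransparency false
set_option backward.isDefEq.respectTransparency.types false
universe u
open CategoryTheory MonoidalCategory CartesianMonoidalCategory MonObj AlgebraicGeometry Limits

namespace Groth.Agent.OrbitQuotLib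

variable {k : Type u} [Field k] [IsAlgClosed k]

/-- The point of a rational point. -/
noncomputable def pim {X : Over (Spec (CommRingCat.of k))} (e : 𝟙_ (Over (Spec (CommRingCat.of k))) ⟶ X) :
    X.left := e.left (IsLocalRing.closedPoint k)

theorem pim_comp {X Y : Over (Spec (CommRingCat.of k))} (e : 𝟙_ (Over (Spec (CommRingCat.of k))) ⟶ X) (f : X ⟶ Y) :
    pim (e ≫ f) = f.left (pim e) := rfl

theorem isIso_toUnit_PK : IsIso (toUnit (Over.mk (Spec.map (CommRingCat.ofHom (algebraMap k k))))) := by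
  have : IsIso (Spec.map (CommRingCat.ofHom (algebraMap k k))) := by
    rw [show CommRingCat.ofHom (algebraMap k k) = 𝟙 (CommRingCat.of k) from rfl]
    infer_instance
  haveI : IsIso ((Over.forget _).map (toUnit (Over.mk (Spec.map (CommRingCat.ofHom (algebraMap k k)))))) := this
  exact isIso_of_reflects_iso _ (Over.forget _)

theorem exists_pim {X : Over (Spec (CommRingCat.of k))} [LocallyOfFiniteType X.hom] (z : X.left)
    (hz : IsClosed ({z} : Set X.left)) : ∃ e : 𝟙_ _ ⟶ X, pim e = z := by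
  obtain ⟨p, hp⟩ := SepPtsLib.exists_pt_of_closed (k := k) (K := k) z hz
  haveI := isIso_toUnit_PK (k := k)
  refine ⟨inv (toUnit _) ≫ p, ?_⟩
  show p.left _ = z
  exact hp _

theorem exists_lift_pim {X Y : Over (Spec (CommRingCat.of k))} [LocallyOfFiniteType X.hom]
    [LocallyOfFiniteType Y.hom] (f : X ⟶ Y) (e : 𝟙_ _ ⟶ Y) (h : pim e ∈ Set.range f.left) :
    ∃ e' : 𝟙_ _ ⟶ X, e' ≫ f = e := by
  haveI := isIso_toUnit_PK (k := k)
  obtain ⟨a, ha⟩ := h
  obtain ⟨x, hx, -⟩ := AlmostHomLib.exists_lift_pt f ⊤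
    (toUnit (Over.mk (Spec.map (CommRingCat.ofHom (algebraMap k k)))) ≫ e) ⟨a, trivial, ha.trans (by
      show e.left _ = e.left _
      exact congrArg _ (Subsingleton.elim _ _))⟩
  exact ⟨inv (toUnit _) ≫ x, by rw [Category.assoc, hx, IsIso.inv_hom_id_assoc]⟩

variable {H H₀ : Over (Spec (CommRingCat.of k))}
  [GrpObj H] [GrpObj H₀] [LocallyOfFiniteType H.hom] (j : H₀ ⟶ H) [IsMonHom j] [IsOpenImmersion j.left]

/-- Left translation by a rational point. -/
noncomputable def tr (g : 𝟙_ (Over (Spec (CommRingCat.of k))) ⟶ H) : H ⟶ H := (toUnit H ≫ g) * 𝟙 H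

theorem comp_tr (g : 𝟙_ (Over (Spec (CommRingCat.of k))) ⟶ H) {T : Over (Spec (CommRingCat.of k))} (x : T ⟶ H) :
    x ≫ tr g = (toUnit T ≫ g) * x := by
  rw [tr, MonObj.comp_mul, Category.comp_id, ← Category.assoc, comp_toUnit]

theorem isIso_tr (g : 𝟙_ (Over (Spec (CommRingCat.of k))) ⟶ H) : IsIso (tr g).left := by
  haveI : IsIso (tr g) := by
    refine ⟨tr g⁻¹, ?_, ?_⟩
    · rw [comp_tr, tr, GrpObj.comp_inv, inv_mul_cancel_left]
    · rw [comp_tr, tr, GrpObj.comp_inv, mul_inv_cancel_left]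
  exact inferInstanceAs (IsIso ((Over.forget _).map (tr g)))

theorem range_isClosed : IsClosed (Set.range j.left) := by
  haveI : LocallyOfFiniteType H₀.hom := by rw [← Over.w j]; infer_instance
  haveI : JacobsonSpace H.left := LocallyOfFiniteType.jacobsonSpace H.hom
  refine isClosed_of_closure_subset fun y hy => ?_
  by_contra hn
  obtain ⟨z, ⟨hz, hzn⟩, hzc⟩ := nonempty_inter_closedPoints
    (Z := closure (Set.range j.left) ∩ (Set.range j.left)ᶜ) ⟨y, hy, hn⟩
    (isClosed_closure.inter j.left.isOpenEmbedding.isOpen_range.isClosed_compl).isLocallyClosed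
  obtain ⟨g, hg⟩ := exists_pim z hzc
  haveI := isIso_tr g
  have hU : IsOpen (Set.range (j.left ≫ (tr g).left)) := (j.left ≫ (tr g).left).isOpenEmbedding.isOpen_range
  have hzU : z ∈ Set.range (j.left ≫ (tr g).left) := by
    refine ⟨pim (1 : 𝟙_ _ ⟶ H₀), ?_⟩
    show (j ≫ tr g).left (pim (1 : 𝟙_ _ ⟶ H₀)) = z
    rw [← pim_comp, ← Category.assoc, MonObj.one_comp, comp_tr, _root_.mul_one, toUnit_unique (toUnit _) (𝟙 _),
      Category.id_comp]
    exact hg
  obtain ⟨q, ⟨hq1, hq2⟩, hqc⟩ := nonempty_inter_closedPoints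
    (Z := Set.range (j.left ≫ (tr g).left) ∩ Set.range j.left)
    (mem_closure_iff.mp hz _ hU hzU) (hU.inter j.left.isOpenEmbedding.isOpen_range).isLocallyClosed
  obtain ⟨p, rfl⟩ := exists_pim q hqc
  obtain ⟨h₁, hh₁⟩ := exists_lift_pim (j ≫ tr g) p hq1
  obtain ⟨h₂, hh₂⟩ := exists_lift_pim j p hq2
  have e : g = (h₂ * h₁⁻¹) ≫ j := by
    rw [MonObj.mul_comp, GrpObj.inv_comp, hh₂, eq_mul_inv_iff_mul_eq, ← hh₁, ← Category.assoc, comp_tr,
      toUnit_unique (toUnit _) (𝟙 _), Category.id_comp]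
  refine hzn ⟨pim (h₂ * h₁⁻¹), ?_⟩
  rw [← hg, e, pim_comp]

theorem isClosedImmersion : IsClosedImmersion j.left :=
  IsClosedImmersion.of_isPreimmersion _ (range_isClosed j)

/-- A connected open subgroup is normal. -/
theorem isNormal [ConnectedSpace H₀.left] :
    ∀ (T : Over (Spec (CommRingCat.of k))) (g : T ⟶ H) (h : T ⟶ H₀), ∃ h' : T ⟶ H₀,
      g * (h ≫ j) * g⁻¹ = h' ≫ j := by
  haveI : LocallyOfFiniteType H₀.hom := by rw [← Over.w j]; infer_instance
  haveI : LocallyOfFiniteType (H ⊗ H₀).hom := by rw [Over.tensorObj_hom]; infer_instance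
  haveI : JacobsonSpace (H ⊗ H₀).left := LocallyOfFiniteType.jacobsonSpace (H ⊗ H₀).hom
  let c : H ⊗ H₀ ⟶ H := fst H H₀ * (snd H H₀ ≫ j) * (fst H H₀)⁻¹
  have hclopen : IsClopen (Set.range j.left) := ⟨range_isClosed j, j.left.isOpenEmbedding.isOpen_range⟩
  have hsub : Set.range c.left ⊆ Set.range j.left := by
    rintro _ ⟨q, rfl⟩
    by_contra hn
    obtain ⟨z, hz, hzc⟩ := nonempty_inter_closedPoints (Z := c.left ⁻¹' (Set.range j.left)ᶜ) ⟨q, hn⟩
      ((hclopen.compl.isOpen.preimage c.left.continuous).isLocallyClosed)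
    obtain ⟨p, rfl⟩ := exists_pim z hzc
    obtain ⟨g, h, rfl⟩ : ∃ g h, lift g h = p := ⟨p ≫ fst H H₀, p ≫ snd H H₀, lift_comp_fst_snd p⟩
    let cg : H₀ ⟶ H := (toUnit H₀ ≫ g) * j * (toUnit H₀ ≫ g)⁻¹
    have hcg : ∀ x : 𝟙_ _ ⟶ H₀, x ≫ cg = g * (x ≫ j) * g⁻¹ := fun x => by
      simp only [cg, MonObj.comp_mul, GrpObj.comp_inv, ← Category.assoc]
      rw [toUnit_unique (x ≫ toUnit H₀) (𝟙 _), Category.id_comp]
    have hconn : _root_.IsPreconnected (Set.range cg.left) := isPreconnected_range cg.left.continuous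
    have h1 : pim (1 : 𝟙_ _ ⟶ H) ∈ Set.range cg.left ∩ Set.range j.left := by
      refine ⟨⟨pim (1 : 𝟙_ _ ⟶ H₀), ?_⟩, ⟨pim (1 : 𝟙_ _ ⟶ H₀), ?_⟩⟩
      · rw [← pim_comp, hcg, MonObj.one_comp, _root_.mul_one, mul_inv_cancel]
      · rw [← pim_comp, MonObj.one_comp]
    apply hz
    rw [← pim_comp, show lift g h ≫ c = h ≫ cg by rw [hcg]; simp [c, MonObj.comp_mul, GrpObj.comp_inv]]
    exact hconn.subset_isClopen hclopen ⟨_, h1.1, h1.2⟩ ⟨pim h, rfl⟩
  let l : H ⊗ H₀ ⟶ H₀ := Over.homMk (IsOpenImmersion.lift j.left c.left hsub) (by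
    rw [← Over.w j, IsOpenImmersion.lift_fac_assoc, Over.w c])
  intro T g h
  refine ⟨lift g h ≫ l, ?_⟩
  have hl : l ≫ j = c := Over.OverMorphism.ext (IsOpenImmersion.lift_fac _ _ _)
  rw [Category.assoc, hl]
  simp [c, MonObj.comp_mul, GrpObj.comp_inv]

/-- The quotient of an algebraic group by an open subgroup is finite. -/
theorem isFinite_quotient [QuasiCompact H.hom] {W : Over (Spec (CommRingCat.of k))} [LocallyOfFiniteType W.hom]
    (β : H ⟶ W) [Flat β.left] [Surjective β.left] (hW : IsPullback (fst H H₀) ((H ◁ j) ≫ μ[H]) β β) :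
    IsFinite W.hom := by
  haveI : LocallyOfFiniteType H₀.hom := by rw [← Over.w j]; infer_instance
  haveI : JacobsonSpace W.left := LocallyOfFiniteType.jacobsonSpace W.hom
  haveI : IsLocallyNoetherian W.left := LocallyOfFiniteType.isLocallyNoetherian W.hom
  haveI : LocallyOfFiniteType (β.left ≫ W.hom) := by rw [Over.w]; infer_instance
  haveI : LocallyOfFiniteType β.left := locallyOfFiniteType_of_comp β.left W.hom
  haveI : LocallyOfFinitePresentation β.left := inferInstance
  haveI : CompactSpace H.left := QuasiCompact.compactSpace_of_compactSpace H.hom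
  haveI : CompactSpace W.left := β.left.surjective.compactSpace β.left.continuous
  have hopen : ∀ w ∈ closedPoints W.left, IsOpen ({w} : Set W.left) := by
    intro w hw
    obtain ⟨p, hp⟩ := exists_pim w hw
    obtain ⟨u, hu⟩ := exists_lift_pim β p (β.left.surjective (pim p))
    haveI := isIso_tr u
    have hj : (j ≫ tr u) ≫ β = toUnit H₀ ≫ p := by
      rw [← hu, comp_tr, ← Category.assoc (toUnit H₀)]
      refine (comp_eq_iff hW _ _).2 ⟨(𝟙 H₀)⁻¹, ?_⟩
      rw [GrpObj.inv_comp, Category.id_comp, mul_inv_rev, inv_mul_cancel_right]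
    have e : {w} = β.left '' Set.range (j.left ≫ (tr u).left) := by
      have key : ∀ a : H₀.left, β.left ((j.left ≫ (tr u).left) a) = w := fun a => by
        rw [← hp]
        show ((j ≫ tr u) ≫ β).left a = _
        rw [hj]
        show p.left _ = p.left _
        haveI : Subsingleton ↥(𝟙_ (Over (Spec (CommRingCat.of k)))).left := inferInstanceAs (Subsingleton (PrimeSpectrum k))
        exact congrArg _ (Subsingleton.elim _ _)
      refine Set.Subset.antisymm ?_ ?_
      · rintro _ rfl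
        exact ⟨_, ⟨pim (1 : 𝟙_ _ ⟶ H₀), rfl⟩, key _⟩
      · rintro _ ⟨_, ⟨a, rfl⟩, rfl⟩
        exact key a
    rw [e]
    exact β.left.isOpenMap _ (j.left ≫ (tr u).left).isOpenEmbedding.isOpen_range
  have hclosed : ∀ z : W.left, z ∈ closedPoints W.left := by
    intro z
    by_contra hz
    have ho : IsOpen (closedPoints W.left) := by
      rw [← Set.biUnion_of_singleton (closedPoints W.left)]
      exact isOpen_biUnion hopen
    obtain ⟨w, hw, hwc⟩ := nonempty_inter_closedPoints (Z := (closedPoints W.left)ᶜ) ⟨z, hz⟩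
      ho.isClosed_compl.isLocallyClosed
    exact hw hwc
  haveI : DiscreteTopology W.left := discreteTopology_iff_isOpen_singleton.mpr fun w => hopen w (hclosed w)
  haveI : Finite W.left := finite_of_compact_of_discrete
  haveI : LocallyQuasiFinite W.hom := LocallyQuasiFinite.of_finite_preimage_singleton _ fun z => Set.toFinite _
  exact ASp.isFinite_of_finite W.hom

end Groth.Agent.OrbitQuotLib
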